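import Mathlib
import Cfsg.Agent.Lib.Helper24.SCH.Defs

set_option autoImplicit false

namespace Cfsg.Agent.Lib.Helper24.MNP

open Cfsg.Agent.Lib.Helper24.SCH (SchAct)

universe u v

section Fix

variable {P : Type u} [Group P]

def fixSub (α : MulAut P) : Subgroup P where
  carrier := {x | α x = x}
  one_mem' := map_one α
  mul_mem' := by
    intro a b ha hb
    show α (a * b) = a * b
    rw [map_mul, ha, hb]
  inv_mem' := by
    intro a ha
    show α a⁻¹ = a⁻¹
    rw [map_inv, ha]

theorem mem_fixSub (α : MulAut P) (x : P) : x ∈ fixSub α ↔ α x = x := Iff.rfl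

end Fix

section Cyc

variable {T : Type u} [Group T]

noncomputable def cycHom (n : ℕ) (α : MulAut T) (h : α ^ n = 1) :
    Multiplicative (ZMod n) →* MulAut T :=
  AddMonoidHom.toMultiplicativeLeft
    (ZMod.lift n ⟨zmultiplesHom (Additive (MulAut T)) (Additive.ofMul α), by
      simp only [zmultiplesHom_apply, natCast_zsmul]
      rw [← ofMul_pow, h, ofMul_one]⟩)

theorem cycHom_apply (n : ℕ) (α : MulAut T) (h : α ^ n = 1) (j : ℕ) :
    cycHom n α h (Multiplicative.ofAdd (j : ZMod n)) = α ^ j := by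
  show Additive.toMul (ZMod.lift n _ ((j : ZMod n))) = α ^ j
  have : ((j : ZMod n)) = (((j : ℤ)) : ZMod n) := by push_cast; rfl
  rw [this, ZMod.lift_coe]
  simp only [zmultiplesHom_apply, natCast_zsmul]
  rfl

abbrev G0 (n : ℕ) (α : MulAut T) (h : α ^ n = 1) : Type u :=
  T ⋊[cycHom n α h] Multiplicative (ZMod n)

instance G0_finite [Finite T] (n : ℕ) [NeZero n] (α : MulAut T) (h : α ^ n = 1) : Finite (G0 n α h) :=
  Finite.of_equiv _ (SemidirectProduct.equivProd (φ := cycHom n α h)).symm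

def Univ (p q : ℕ) (T : Type u) [Group T] (α₀ : MulAut T) : Prop :=
  ∀ (P : Type u) [Group P] [Finite P] (α : MulAut P), SchAct p q P α →
    ∃ (j : ℕ) (ψ : T →* P), j.Coprime q ∧ Function.Surjective ψ ∧
      (∀ t, ψ (α₀ t) = (α ^ j) (ψ t)) ∧ ∀ t, ψ t = 1 → α₀ t = t

end Cyc

section Field

variable {K : Type u} [Field K]

def alphaK (ζ : K) (hζ : ζ ≠ 0) : MulAut (Multiplicative K) where
  toFun w := Multiplicative.ofAdd (ζ * Multiplicative.toAdd w)
  invFun w := Multiplicative.ofAdd (ζ⁻¹ * Multiplicative.toAdd w)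
  left_inv w := by
    show Multiplicative.ofAdd (ζ⁻¹ * (ζ * Multiplicative.toAdd w)) = w
    rw [← mul_assoc, inv_mul_cancel₀ hζ, one_mul]
    rfl
  right_inv w := by
    show Multiplicative.ofAdd (ζ * (ζ⁻¹ * Multiplicative.toAdd w)) = w
    rw [← mul_assoc, mul_inv_cancel₀ hζ, one_mul]
    rfl
  map_mul' a b := by
    show Multiplicative.ofAdd (ζ * (Multiplicative.toAdd a + Multiplicative.toAdd b)) = _
    rw [mul_add]
    rfl

theorem alphaK_apply (ζ : K) (hζ : ζ ≠ 0) (w : Multiplicative K) :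
    alphaK ζ hζ w = Multiplicative.ofAdd (ζ * Multiplicative.toAdd w) := rfl

structure InvHom (K : Type u) [Field K] where
  s : K →+* K
  inv : ∀ x, s (s x) = x

@[ext]
structure UT (K : Type u) [Field K] (σ : InvHom K) where
  x : K
  z : K
  h : z + σ.s z = x * σ.s x

variable {σ : InvHom K}

instance : Mul (UT K σ) where
  mul a b := ⟨a.x + b.x, a.z + b.z + σ.s a.x * b.x, by
    have ha := a.h
    have hb := b.h
    simp only [map_add, map_mul, σ.inv]
    linear_combination ha + hb⟩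

instance : One (UT K σ) where
  one := ⟨0, 0, by simp⟩

instance : Inv (UT K σ) where
  inv a := ⟨-a.x, -a.z + σ.s a.x * a.x, by
    have ha := a.h
    simp only [map_add, map_mul, map_neg, σ.inv]
    linear_combination -ha⟩

theorem UT.mul_x (a b : UT K σ) : (a * b).x = a.x + b.x := rfl
theorem UT.mul_z (a b : UT K σ) : (a * b).z = a.z + b.z + σ.s a.x * b.x := rfl
theorem UT.one_x : (1 : UT K σ).x = 0 := rfl
theorem UT.one_z : (1 : UT K σ).z = 0 := rfl
theorem UT.inv_x (a : UT K σ) : (a⁻¹).x = -a.x := rfl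
theorem UT.inv_z (a : UT K σ) : (a⁻¹).z = -a.z + σ.s a.x * a.x := rfl

instance : Group (UT K σ) where
  mul_assoc a b c := by
    ext
    · simp only [UT.mul_x]; ring
    · simp only [UT.mul_z, UT.mul_x, map_add]; ring
  one_mul a := by
    ext
    · simp only [UT.mul_x, UT.one_x]; ring
    · simp only [UT.mul_z, UT.one_z, UT.one_x, map_zero]; ring
  mul_one a := by
    ext
    · simp only [UT.mul_x, UT.one_x]; ring
    · simp only [UT.mul_z, UT.one_z, UT.one_x]; ring
  inv_mul_cancel a := by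
    ext
    · simp only [UT.mul_x, UT.inv_x, UT.one_x]; ring
    · simp only [UT.mul_z, UT.inv_z, UT.inv_x, UT.one_z, map_neg]; ring

instance [Finite K] : Finite (UT K σ) :=
  Finite.of_injective (fun a : UT K σ => (a.x, a.z)) (by
    intro a b hab
    simp only [Prod.mk.injEq] at hab
    exact UT.ext hab.1 hab.2)

def piU : UT K σ →* Multiplicative K where
  toFun a := Multiplicative.ofAdd a.x
  map_one' := rfl
  map_mul' _ _ := rfl

theorem piU_apply (a : UT K σ) : piU a = Multiplicative.ofAdd a.x := rfl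

def alphaU (σ : InvHom K) (ζ : K) (hζ : σ.s ζ * ζ = 1) : MulAut (UT K σ) where
  toFun a := ⟨ζ * a.x, a.z, by
    have ha := a.h
    simp only [map_mul]
    linear_combination ha - (a.x * σ.s a.x) * hζ⟩
  invFun a := ⟨σ.s ζ * a.x, a.z, by
    have ha := a.h
    simp only [map_mul, σ.inv]
    linear_combination ha - (a.x * σ.s a.x) * hζ⟩
  left_inv a := by
    ext
    · show σ.s ζ * (ζ * a.x) = a.x
      rw [← mul_assoc, hζ, one_mul]
    · rfl
  right_inv a := by
    ext
    · show ζ * (σ.s ζ * a.x) = a.x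
      rw [← mul_assoc, mul_comm ζ, hζ, one_mul]
    · rfl
  map_mul' a b := by
    ext
    · show ζ * (a.x + b.x) = ζ * a.x + ζ * b.x
      ring
    · show a.z + b.z + σ.s a.x * b.x = a.z + b.z + σ.s (ζ * a.x) * (ζ * b.x)
      rw [map_mul]
      linear_combination (-(σ.s a.x * b.x)) * hζ

theorem alphaU_x (ζ : K) (hζ : σ.s ζ * ζ = 1) (a : UT K σ) : (alphaU σ ζ hζ a).x = ζ * a.x := rfl
theorem alphaU_z (ζ : K) (hζ : σ.s ζ * ζ = 1) (a : UT K σ) : (alphaU σ ζ hζ a).z = a.z := rfl

end Field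

end Cfsg.Agent.Lib.Helper24.MNP
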